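import Groth.Prelude.Def_W4c4lgringredgrpLG
import Mathlib.RingTheory.Spectrum.Prime.FreeLocus
import Mathlib.RingTheory.Spectrum.Prime.Topology
import Mathlib.LinearAlgebra.Matrix.ToLin
import Mathlib.LinearAlgebra.Dual.Lemmas
import Mathlib.LinearAlgebra.SymmetricAlgebra.Basic
import Mathlib.Algebra.MvPolynomial.Funext

/-!
# LG-rings: points of quasi-compact opens, projective modules
-/

universe u v

namespace GrothLib.LG

open MvPolynomial TensorProduct

variable {R : Type u} [CommRing R]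

theorem mk_aeval {σ : Type} (m : Ideal R) (s : σ → R) (f : MvPolynomial σ R) :
    Ideal.Quotient.mk m (eval s f) = aeval (fun i => Ideal.Quotient.mk m (s i)) f :=
  DFunLike.congr_fun
    (MvPolynomial.algHom_ext (f := (Ideal.Quotient.mkₐ R m).comp (aeval s)) (g := aeval fun i => Ideal.Quotient.mk m (s i))
      (fun i => by simp)) f

/-- Polynomials having at each maximal ideal a point where one of them is a unit have a point where they
generate the unit ideal. -/
theorem exists_span_eq_top (hR : LGRing.IsLGRing R) {n k : ℕ} (g : Fin k → MvPolynomial (Fin n) R)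
    (h : ∀ (m : Ideal R) [m.IsMaximal], ∃ (x : Fin n → R) (j : Fin k), eval x (g j) ∉ m) :
    ∃ x : Fin n → R, Ideal.span (Set.range fun j => eval x (g j)) = ⊤ := by
  classical
  let f : MvPolynomial (Fin (n + k)) R := ∑ j, X (Fin.natAdd n j) * rename (Fin.castAdd k) (g j)
  have hev : ∀ {A : Type u} [CommRing A] [Algebra R A] (s : Fin (n + k) → A),
      aeval s f = ∑ j, s (Fin.natAdd n j) * aeval (fun i => s (Fin.castAdd k i)) (g j) := by
    intro A _ _ s
    simp [f, map_sum, aeval_rename, Function.comp_def]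
  obtain ⟨s, hs⟩ := hR (n + k) f (fun m hm => by
    obtain ⟨x, j₀, hj₀⟩ := h m
    letI := Ideal.Quotient.field m
    have hne : aeval (fun i => Ideal.Quotient.mk m (x i)) (g j₀) ≠ 0 := by
      rw [← mk_aeval, Ne, Ideal.Quotient.eq_zero_iff_mem]; exact hj₀
    refine ⟨Fin.append (fun i => Ideal.Quotient.mk m (x i))
      (Pi.single j₀ (aeval (fun i => Ideal.Quotient.mk m (x i)) (g j₀))⁻¹), ?_⟩
    rw [hev]
    simp only [Fin.append_left, Fin.append_right]
    rw [Finset.sum_eq_single j₀ (fun j _ hj => by simp [hj]) (by simp)]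
    rw [Pi.single_eq_same, inv_mul_cancel₀ hne]
    exact isUnit_one)
  refine ⟨fun i => s (Fin.castAdd k i), Ideal.eq_top_of_isUnit_mem _ ?_ hs⟩
  rw [hev]
  exact sum_mem fun j _ => Ideal.mul_mem_left _ _ (Ideal.subset_span ⟨j, rfl⟩)

section Module

variable {M : Type v} [AddCommGroup M] [Module R M] [Module.Finite R M] [Module.Projective R M]

theorem exists_presentation :
    ∃ (n : ℕ) (q : (Fin n → R) →ₗ[R] M) (s : M →ₗ[R] (Fin n → R)), q ∘ₗ s = LinearMap.id := by
  obtain ⟨n, q, hq⟩ := Module.Finite.exists_fin' R M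
  obtain ⟨s, hs⟩ := Module.projective_lifting_property q LinearMap.id hq
  exact ⟨n, q, s, hs⟩

/-- A faithfully projective module has a unimodular element. -/
theorem exists_unimodular (hR : LGRing.IsLGRing R) [FaithfulSMul R M] :
    ∃ (m : M) (f : Module.Dual R M), f m = 1 := by
  classical
  obtain ⟨n, q, s, hqs⟩ := exists_presentation (R := R) (M := M)
  let g : Fin n → MvPolynomial (Fin n) R := fun j => ∑ i, C (s (q (Pi.single i 1)) j) * X i
  have hg : ∀ x j, eval x (g j) = s (q x) j := fun x j => by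
    have : s (q x) = ∑ i, x i • s (q (Pi.single i 1)) := by
      conv_lhs => rw [pi_eq_sum_univ' x, map_sum, map_sum]
      simp
    simp [g, this, mul_comm]
  obtain ⟨x, hx⟩ := exists_span_eq_top hR g (fun m hm => by
    by_contra! hall
    have hle : ∀ y : M, y ∈ m • (⊤ : Submodule R M) := fun y => by
      have hy : q (s y) = y := LinearMap.congr_fun hqs y
      rw [← hy, pi_eq_sum_univ' (s y), map_sum]
      refine sum_mem fun i _ => ?_
      rw [map_smul]
      refine Submodule.smul_mem_smul ?_ trivial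
      have := hall (s y) i
      rwa [hg, hy] at this
    obtain ⟨r, hr, hr0⟩ := Submodule.exists_sub_one_mem_and_smul_eq_zero_of_fg_of_le_smul m ⊤
      Module.Finite.fg_top (fun y _ => hle y)
    obtain rfl : r = 0 := eq_of_smul_eq_smul fun y : M => by rw [hr0 y trivial, zero_smul]
    exact hm.ne_top (m.eq_top_iff_one.2 (by simpa using neg_mem hr)))
  obtain ⟨c, hc⟩ := (Ideal.mem_span_range_iff_exists_fun).1 (hx.ge (Submodule.mem_top (x := (1 : R))))
  exact ⟨q x, ∑ j, c j • (LinearMap.proj j ∘ₗ s), by simpa [hg] using hc⟩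

variable {N : Type v} [AddCommGroup N] [Module R N] [Module.Finite R N] [Module.Projective R N]

/-- Finite projective modules over an LG ring isomorphic at every maximal ideal are isomorphic. -/
theorem nonempty_equiv_of_residue (hR : LGRing.IsLGRing R)
    (h : ∀ (m : Ideal R) [m.IsMaximal], ∃ (φ : M →ₗ[R] N) (ψ : N →ₗ[R] M),
      (∀ (ℓ : Module.Dual R M) x, ℓ (ψ (φ x) - x) ∈ m) ∧ (∀ (ℓ : Module.Dual R N) x, ℓ (φ (ψ x) - x) ∈ m)) :
    Nonempty (M ≃ₗ[R] N) := by
  classical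
  obtain ⟨a, qM, sM, hM⟩ := exists_presentation (R := R) (M := M)
  obtain ⟨b, qN, sN, hN⟩ := exists_presentation (R := R) (M := N)
  have hM' : ∀ x, qM (sM x) = x := LinearMap.congr_fun hM
  have hN' : ∀ x, qN (sN x) = x := LinearMap.congr_fun hN
  let EM := LinearMap.toMatrix' (sM ∘ₗ qM)
  let EN := LinearMap.toMatrix' (sN ∘ₗ qN)
  let σ := (Fin b × Fin a) ⊕ (Fin a × Fin b)
  let A : Matrix (Fin b) (Fin a) (MvPolynomial σ R) := fun i j => X (.inl (i, j))
  let B : Matrix (Fin a) (Fin b) (MvPolynomial σ R) := fun i j => X (.inr (i, j))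
  let EM' := EM.map (C : R → MvPolynomial σ R)
  let EN' := EN.map (C : R → MvPolynomial σ R)
  let F : MvPolynomial σ R :=
    (EN' * A * EM' * B * EN' + 1 - EN').det * (EM' * B * EN' * A * EM' + 1 - EM').det
  let TN : (M →ₗ[R] N) → (N →ₗ[R] M) → (Fin b → R) →ₗ[R] (Fin b → R) := fun φ ψ =>
    sN ∘ₗ φ ∘ₗ ψ ∘ₗ qN + LinearMap.id - sN ∘ₗ qN
  let TM : (M →ₗ[R] N) → (N →ₗ[R] M) → (Fin a → R) →ₗ[R] (Fin a → R) := fun φ ψ =>
    sM ∘ₗ ψ ∘ₗ φ ∘ₗ qM + LinearMap.id - sM ∘ₗ qM
  -- evaluation of `F`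
  let Φ : (σ → R) → (M →ₗ[R] N) := fun v => qN ∘ₗ Matrix.toLin' (fun i j => v (.inl (i, j))) ∘ₗ sM
  let Ψ : (σ → R) → (N →ₗ[R] M) := fun v => qM ∘ₗ Matrix.toLin' (fun i j => v (.inr (i, j))) ∘ₗ sN
  have hF : ∀ v, eval v F = (LinearMap.toMatrix' (TN (Φ v) (Ψ v))).det * (LinearMap.toMatrix' (TM (Φ v) (Ψ v))).det := by
    intro v
    let A₀ : Matrix (Fin b) (Fin a) R := fun i j => v (.inl (i, j))
    let B₀ : Matrix (Fin a) (Fin b) R := fun i j => v (.inr (i, j))
    have hA : A.map (eval v) = A₀ := by ext i j; simp [A, A₀]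
    have hB : B.map (eval v) = B₀ := by ext i j; simp [B, B₀]
    have hEN : EN'.map (eval v) = EN := by ext i j; simp [EN']
    have hEM : EM'.map (eval v) = EM := by ext i j; simp [EM']
    have eA : (eval v).mapMatrix (EN' * A * EM' * B * EN' + 1 - EN') = LinearMap.toMatrix' (TN (Φ v) (Ψ v)) := by
      have e : sN ∘ₗ Φ v ∘ₗ Ψ v ∘ₗ qN =
          (sN ∘ₗ qN) ∘ₗ Matrix.toLin' A₀ ∘ₗ (sM ∘ₗ qM) ∘ₗ Matrix.toLin' B₀ ∘ₗ (sN ∘ₗ qN) := rfl
      simp only [RingHom.mapMatrix_apply, Matrix.map_sub _ (map_sub _), Matrix.map_add _ (map_add _),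
        Matrix.map_mul, Matrix.map_one _ (map_zero _) (map_one _), hA, hB, hEN, hEM]
      simp only [TN, e, map_sub, map_add, LinearMap.toMatrix'_comp, LinearMap.toMatrix'_id,
        LinearMap.toMatrix'_toLin', EM, EN, Matrix.mul_assoc]
    have eB : (eval v).mapMatrix (EM' * B * EN' * A * EM' + 1 - EM') = LinearMap.toMatrix' (TM (Φ v) (Ψ v)) := by
      have e : sM ∘ₗ Ψ v ∘ₗ Φ v ∘ₗ qM =
          (sM ∘ₗ qM) ∘ₗ Matrix.toLin' B₀ ∘ₗ (sN ∘ₗ qN) ∘ₗ Matrix.toLin' A₀ ∘ₗ (sM ∘ₗ qM) := rfl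
      simp only [RingHom.mapMatrix_apply, Matrix.map_sub _ (map_sub _), Matrix.map_add _ (map_add _),
        Matrix.map_mul, Matrix.map_one _ (map_zero _) (map_one _), hA, hB, hEN, hEM]
      simp only [TM, e, map_sub, map_add, LinearMap.toMatrix'_comp, LinearMap.toMatrix'_id,
        LinearMap.toMatrix'_toLin', EM, EN, Matrix.mul_assoc]
    rw [map_mul, RingHom.map_det, RingHom.map_det, eA, eB]
  let eσ := Fintype.equivFin σ
  obtain ⟨x, hx⟩ := exists_span_eq_top hR (fun _ : Fin 1 => rename eσ F) (fun m hm => by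
    obtain ⟨φ, ψ, h1, h2⟩ := h m
    let v : σ → R := Sum.elim (fun p => LinearMap.toMatrix' (sN ∘ₗ φ ∘ₗ qM) p.1 p.2)
      (fun p => LinearMap.toMatrix' (sM ∘ₗ ψ ∘ₗ qN) p.1 p.2)
    refine ⟨v ∘ eσ.symm, 0, ?_⟩
    rw [eval_rename, Function.comp_assoc, Equiv.symm_comp_self, Function.comp_id, hF]
    have hΦ : Φ v = φ := by
      show qN ∘ₗ Matrix.toLin' (LinearMap.toMatrix' (sN ∘ₗ φ ∘ₗ qM)) ∘ₗ sM = φ
      rw [Matrix.toLin'_toMatrix']; ext x; simp [hM', hN']
    have hΨ : Ψ v = ψ := by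
      show qM ∘ₗ Matrix.toLin' (LinearMap.toMatrix' (sM ∘ₗ ψ ∘ₗ qN)) ∘ₗ sN = ψ
      rw [Matrix.toLin'_toMatrix']; ext x; simp [hM', hN']
    rw [hΦ, hΨ, ← Ideal.Quotient.eq_zero_iff_mem, map_mul, RingHom.map_det, RingHom.map_det]
    have t1 : (Ideal.Quotient.mk m).mapMatrix (LinearMap.toMatrix' (TN φ ψ)) = 1 := by
      refine Matrix.ext fun i j => ?_
      have := Ideal.Quotient.eq.2 (show sN (φ (ψ (qN (Pi.single j 1)))) i - sN (qN (Pi.single j 1)) i ∈ m by
        simpa using h2 (LinearMap.proj i ∘ₗ sN) (qN (Pi.single j 1)))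
      simp [TN, LinearMap.toMatrix'_apply, this, Pi.single_apply, Matrix.one_apply]
    have t2 : (Ideal.Quotient.mk m).mapMatrix (LinearMap.toMatrix' (TM φ ψ)) = 1 := by
      refine Matrix.ext fun i j => ?_
      have := Ideal.Quotient.eq.2 (show sM (ψ (φ (qM (Pi.single j 1)))) i - sM (qM (Pi.single j 1)) i ∈ m by
        simpa using h1 (LinearMap.proj i ∘ₗ sM) (qM (Pi.single j 1)))
      simp [TM, LinearMap.toMatrix'_apply, this, Pi.single_apply, Matrix.one_apply]
    rw [t1, t2, Matrix.det_one, Matrix.det_one, one_mul]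
    exact one_ne_zero)
  simp only [Set.range_const, Ideal.span_singleton_eq_top, eval_rename, hF] at hx
  set φ := Φ (x ∘ eσ)
  set ψ := Ψ (x ∘ eσ)
  have bN := IsUnit.mul_iff.1 hx
  have bij : ∀ {c : ℕ} (T : (Fin c → R) →ₗ[R] (Fin c → R)), IsUnit (LinearMap.toMatrix' T).det → Function.Bijective T := by
    intro c T hT
    obtain ⟨u, hu⟩ := (Matrix.isUnit_iff_isUnit_det _).2 hT
    refine Function.bijective_iff_has_inverse.2 ⟨Matrix.toLin' (u⁻¹ : (Matrix _ _ R)ˣ).val, fun y => ?_, fun y => ?_⟩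
    · have e : T = Matrix.toLin' u.val := by rw [hu, Matrix.toLin'_toMatrix']
      rw [e, ← LinearMap.comp_apply, ← Matrix.toLin'_mul, Units.inv_mul, Matrix.toLin'_one, LinearMap.id_apply]
    · have e : T = Matrix.toLin' u.val := by rw [hu, Matrix.toLin'_toMatrix']
      rw [e, ← LinearMap.comp_apply, ← Matrix.toLin'_mul, Units.mul_inv, Matrix.toLin'_one, LinearMap.id_apply]
  have bN' := bij _ bN.1
  have bM' := bij _ bN.2
  refine ⟨LinearEquiv.ofBijective φ ⟨(injective_iff_map_eq_zero φ).2 fun y hy => ?_, fun z => ?_⟩⟩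
  · have : TM φ ψ (sM y) = 0 := by simp [TM, hM', hy]
    have := bM'.1 (this.trans (map_zero _).symm)
    rw [← hM' y, this, map_zero]
  · obtain ⟨w, hw⟩ := bN'.2 (sN z)
    refine ⟨ψ (qN w), ?_⟩
    have := congrArg qN hw
    simpa [TN, hN'] using this

/-- Finite projective modules of the same rank over an LG ring are isomorphic. -/
theorem nonempty_equiv_of_rank (hR : LGRing.IsLGRing R)
    (h : ∀ p : PrimeSpectrum R, p.asIdeal.IsMaximal → Module.rankAtStalk M p = Module.rankAtStalk N p) :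
    Nonempty (M ≃ₗ[R] N) := by
  refine nonempty_equiv_of_residue hR fun m hm => ?_
  letI := Ideal.Quotient.field m
  let K := R ⧸ m
  have key : ∀ (P : Type v) [AddCommGroup P] [Module R P] [Module.Finite R P] [Module.Projective R P],
      Module.finrank K (K ⊗[R] P) = Module.rankAtStalk P ⟨m, hm.isPrime⟩ := by
    intro P _ _ _ _
    have := Module.rankAtStalk_isBaseChange (TensorProduct.isBaseChange R P K) (⟨⊥, Ideal.isPrime_bot⟩ : PrimeSpectrum K)
    rw [Module.rankAtStalk_eq_finrank_of_free] at this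
    rw [show PrimeSpectrum.comap (algebraMap R K) ⟨⊥, Ideal.isPrime_bot⟩ = ⟨m, hm.isPrime⟩ from
      PrimeSpectrum.ext (Ideal.mk_ker (I := m))] at this
    exact this
  obtain e : (K ⊗[R] M) ≃ₗ[K] (K ⊗[R] N) :=
    LinearEquiv.ofFinrankEq _ _ (by rw [key M, key N]; exact h _ hm)
  have hs : ∀ (P : Type v) [AddCommGroup P] [Module R P], Function.Surjective (TensorProduct.mk R K P 1) :=
    fun P _ _ => TensorProduct.mk_surjective R P K Ideal.Quotient.mk_surjective
  obtain ⟨φ, hφ⟩ := Module.projective_lifting_property (TensorProduct.mk R K N 1)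
    ((e.toLinearMap.restrictScalars R) ∘ₗ TensorProduct.mk R K M 1) (hs N)
  obtain ⟨ψ, hψ⟩ := Module.projective_lifting_property (TensorProduct.mk R K M 1)
    ((e.symm.toLinearMap.restrictScalars R) ∘ₗ TensorProduct.mk R K N 1) (hs M)
  have hφ' : ∀ x, (1 : K) ⊗ₜ[R] φ x = e ((1 : K) ⊗ₜ[R] x) := LinearMap.congr_fun hφ
  have hψ' : ∀ x, (1 : K) ⊗ₜ[R] ψ x = e.symm ((1 : K) ⊗ₜ[R] x) := LinearMap.congr_fun hψ
  refine ⟨φ, ψ, fun ℓ x => ?_, fun ℓ x => ?_⟩
  · have : (1 : K) ⊗ₜ[R] (ψ (φ x) - x) = 0 := by rw [tmul_sub, hψ', hφ', e.symm_apply_apply, sub_self]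
    have := congrArg (TensorProduct.rid R K ∘ ℓ.lTensor K) this
    rw [← Ideal.Quotient.eq_zero_iff_mem]
    simpa [Algebra.smul_def, K, Ideal.Quotient.algebraMap_eq] using this
  · have : (1 : K) ⊗ₜ[R] (φ (ψ x) - x) = 0 := by rw [tmul_sub, hφ', hψ', e.apply_symm_apply, sub_self]
    have := congrArg (TensorProduct.rid R K ∘ ℓ.lTensor K) this
    rw [← Ideal.Quotient.eq_zero_iff_mem]
    simpa [Algebra.smul_def, K, Ideal.Quotient.algebraMap_eq] using this

end Module

section Points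

theorem range_comap_subset_iff {A : Type u} [CommRing A] (φ : A →+* R) (s : Set A) :
    Set.range (PrimeSpectrum.comap φ) ⊆ (PrimeSpectrum.zeroLocus s)ᶜ ↔ Ideal.span (φ '' s) = ⊤ := by
  rw [← PrimeSpectrum.zeroLocus_empty_iff_eq_top, PrimeSpectrum.zeroLocus_span,
    ← PrimeSpectrum.preimage_comap_zeroLocus, Set.eq_empty_iff_forall_notMem, Set.range_subset_iff]
  rfl

end Points

end GrothLib.LG
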