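import Groth.Agent.Lib.LG26.Basic

/-!
# Points of opens of vector bundles over LG-rings
-/

universe u v

namespace GrothLib.LG

open MvPolynomial

variable {R : Type u} [CommRing R] {M : Type u} [AddCommGroup M] [Module R M]

/-- Pulling a function on the bundle back along a presentation. -/
noncomputable def pullPoly {n : ℕ} (q : (Fin n → R) →ₗ[R] M) :
    SymmetricAlgebra R (Module.Dual R M) →ₐ[R] MvPolynomial (Fin n) R :=
  SymmetricAlgebra.lift (∑ i, (LinearMap.applyₗ (q (Pi.single i 1)) : Module.Dual R M →ₗ[R] R).smulRight (X i))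

theorem aeval_pullPoly {n : ℕ} (q : (Fin n → R) →ₗ[R] M) {A : Type u} [CommRing A] [Algebra R A]
    (x : Fin n → A) :
    (aeval x).comp (pullPoly q) = SymmetricAlgebra.lift
      (∑ i, (LinearMap.applyₗ (q (Pi.single i 1)) : Module.Dual R M →ₗ[R] R).smulRight (x i)) := by
  refine SymmetricAlgebra.algHom_ext (LinearMap.ext fun ξ => ?_)
  simp [pullPoly]

theorem eval_pullPoly {n : ℕ} (q : (Fin n → R) →ₗ[R] M) (x : Fin n → R) (g : SymmetricAlgebra R (Module.Dual R M)) :
    eval x (pullPoly q g) = SymmetricAlgebra.lift (Module.Dual.eval R M (q x)) g := by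
  have h := DFunLike.congr_fun (aeval_pullPoly (A := R) q x) g
  rw [AlgHom.comp_apply, MvPolynomial.aeval_eq_eval] at h
  rw [h]
  congr 2
  refine LinearMap.ext fun ξ => ?_
  conv_rhs => rw [Module.Dual.eval_apply, pi_eq_sum_univ' x, map_sum, map_sum]
  simp [mul_comm]

/-- The retraction of `pullPoly` given by a section of the presentation. -/
noncomputable def pushPoly {n : ℕ} (s : M →ₗ[R] (Fin n → R)) :
    MvPolynomial (Fin n) R →ₐ[R] SymmetricAlgebra R (Module.Dual R M) :=
  aeval fun i => SymmetricAlgebra.ι R _ (LinearMap.proj i ∘ₗ s)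

theorem pushPoly_pullPoly {n : ℕ} (q : (Fin n → R) →ₗ[R] M) (s : M →ₗ[R] (Fin n → R))
    (h : ∀ y, q (s y) = y) (g : SymmetricAlgebra R (Module.Dual R M)) : pushPoly s (pullPoly q g) = g := by
  suffices (pushPoly s).comp (pullPoly q) = AlgHom.id R _ from DFunLike.congr_fun this g
  refine SymmetricAlgebra.algHom_ext (LinearMap.ext fun ξ => ?_)
  have hξ : ξ = ∑ i, ξ (q (Pi.single i 1)) • (LinearMap.proj i ∘ₗ s : Module.Dual R M) := by
    refine LinearMap.ext fun y => ?_
    conv_lhs => rw [← h y, pi_eq_sum_univ' (s y), map_sum, map_sum]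
    simp [mul_comm]
  conv_rhs => rw [hξ]
  simp [pullPoly, pushPoly]

variable [Module.Finite R M] [Module.Projective R M]

theorem exists_point_bundle (hR : LGRing.IsLGRing R) (t : Finset (SymmetricAlgebra R (Module.Dual R M)))
    (h : ∀ (m : Ideal R) [m.IsMaximal], ∃ y : M, ∃ g ∈ t, SymmetricAlgebra.lift (Module.Dual.eval R M y) g ∉ m) :
    ∃ y : M, Ideal.span (SymmetricAlgebra.lift (Module.Dual.eval R M y) '' (t : Set _)) = ⊤ := by
  obtain ⟨n, q, s, hqs⟩ := exists_presentation (R := R) (M := M)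
  obtain ⟨x, hx⟩ := exists_span_eq_top hR (fun j : Fin t.card => pullPoly q (t.equivFin.symm j).1) (fun m hm => by
    obtain ⟨y, g, hg, hgm⟩ := h m
    refine ⟨s y, t.equivFin ⟨g, hg⟩, ?_⟩
    rwa [Equiv.symm_apply_apply, eval_pullPoly, show q (s y) = y from LinearMap.congr_fun hqs y])
  refine ⟨q x, top_unique (hx ▸ Ideal.span_mono ?_)⟩
  rintro _ ⟨j, rfl⟩
  exact ⟨_, (t.equivFin.symm j).2, (eval_pullPoly q x _).symm⟩

/-- Every residue point of the bundle lifts. -/
theorem exists_lift_point (m : Ideal R) (φ : Module.Dual R M →ₗ[R] (R ⧸ m)) :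
    ∃ y : M, ∀ g, SymmetricAlgebra.lift φ g = Ideal.Quotient.mk m (SymmetricAlgebra.lift (Module.Dual.eval R M y) g) := by
  obtain ⟨φ', hφ'⟩ := Module.projective_lifting_property (Ideal.Quotient.mkₐ R m).toLinearMap φ Ideal.Quotient.mk_surjective
  obtain ⟨y, rfl⟩ := (Module.evalEquiv R M).surjective φ'
  refine ⟨y, fun g => ?_⟩
  suffices SymmetricAlgebra.lift φ = (Ideal.Quotient.mkₐ R m).comp (SymmetricAlgebra.lift (Module.Dual.eval R M y)) from
    DFunLike.congr_fun this g
  refine SymmetricAlgebra.algHom_ext (LinearMap.ext fun ξ => ?_)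
  have := LinearMap.congr_fun hφ' ξ
  simp at this ⊢
  exact this.symm

theorem exists_notMem_of_infinite (m : Ideal R) [m.IsMaximal] [Infinite (R ⧸ m)]
    (g : SymmetricAlgebra R (Module.Dual R M))
    (hg : g ∉ m.map (algebraMap R (SymmetricAlgebra R (Module.Dual R M)))) :
    ∃ y : M, SymmetricAlgebra.lift (Module.Dual.eval R M y) g ∉ m := by
  obtain ⟨n, q, s, hqs⟩ := exists_presentation (R := R) (M := M)
  have hG : MvPolynomial.map (Ideal.Quotient.mk m) (pullPoly q g) ≠ 0 := fun h0 => by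
    apply hg
    have hmem : pullPoly q g ∈ m.map (MvPolynomial.C : R →+* MvPolynomial (Fin n) R) := by
      rw [← Ideal.mk_ker (I := m), ← MvPolynomial.ker_map, RingHom.mem_ker, h0]
    have := Ideal.mem_map_of_mem (pushPoly s).toRingHom hmem
    have e : (pushPoly s).toRingHom.comp (MvPolynomial.C : R →+* MvPolynomial (Fin n) R) =
        algebraMap R (SymmetricAlgebra R (Module.Dual R M)) :=
      RingHom.ext fun r => (pushPoly s).commutes r
    rw [Ideal.map_map, e] at this
    rw [← pushPoly_pullPoly q s (LinearMap.congr_fun hqs) g]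
    exact this
  obtain ⟨x, hx⟩ : ∃ x, eval x (MvPolynomial.map (Ideal.Quotient.mk m) (pullPoly q g)) ≠ 0 := by
    by_contra! hall
    exact hG (MvPolynomial.funext fun x => by rw [hall x, map_zero])
  choose xl hxl using fun i => Ideal.Quotient.mk_surjective (x i)
  refine ⟨q xl, fun hmem => hx ?_⟩
  rw [← eval_pullPoly, ← Ideal.Quotient.eq_zero_iff_mem, mk_aeval] at hmem
  rw [MvPolynomial.eval_map, ← Ideal.Quotient.algebraMap_eq, ← MvPolynomial.aeval_def]
  simpa [hxl] using hmem

end GrothLib.LG
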